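import Groth.Agent.FunMorLib.Extend

/-! Additivity and direct sums. -/

set_option autoImplicit false
set_option linter.style.haveILetI false
universe u v' u'

open CategoryTheory CategoryTheory.Limits
open scoped DirectSum

noncomputable section

namespace FunMorLib

variable {A : Type u} [CommRing A] {B : Type u'} [Category.{v'} B] [Preadditive B]
  (F' : ModuleCat.{u} A ⥤ B) [PreservesFilteredColimitsOfSize.{u, u} F'] [((fp A).ι ⋙ F').Additive]

theorem additive : F'.Additive := by
  refine ⟨fun {M N f g} => hom_ext (F' := F') fun P _ _ _ p => ?_⟩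
  rw [Preadditive.comp_add, ← F'.map_comp, ← F'.map_comp, ← F'.map_comp]
  let q : (P × P) →ₗ[A] N := ((ModuleCat.ofHom p ≫ f).hom).coprod ((ModuleCat.ofHom p ≫ g).hom)
  let u₀ : obj (A := A) P ⟶ obj (P × P) := ⟨ModuleCat.ofHom (LinearMap.inl A P P)⟩
  let v₀ : obj (A := A) P ⟶ obj (P × P) := ⟨ModuleCat.ofHom (LinearMap.inr A P P)⟩
  have hu : ModuleCat.ofHom p ≫ f = u₀.hom ≫ ModuleCat.ofHom q :=
    ModuleCat.hom_ext (LinearMap.ext fun x => by simp [q, u₀])
  have hv : ModuleCat.ofHom p ≫ g = v₀.hom ≫ ModuleCat.ofHom q :=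
    ModuleCat.hom_ext (LinearMap.ext fun x => by simp [q, v₀])
  rw [Preadditive.comp_add, hu, hv, ← Preadditive.add_comp, F'.map_comp, F'.map_comp, F'.map_comp,
    ← Preadditive.add_comp]
  congr 1
  exact ((fp A).ι ⋙ F').map_add (f := u₀) (g := v₀)

theorem exists_support {J : Type u} (Z : J → ModuleCat.{u} A) {P : Type u} [AddCommGroup P] [Module A P]
    [Module.Finite A P] (g : P →ₗ[A] ⨁ j, Z j) : ∃ S : Finset J, ∀ x j, j ∉ S → g x j = 0 := by
  classical
  obtain ⟨s, hs⟩ := Module.Finite.fg_top (R := A) (M := P)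
  refine ⟨s.biUnion fun x => (g x).support, fun x j hj => ?_⟩
  have : (DirectSum.component A J (fun j => Z j) j).comp g = 0 := LinearMap.ext_on hs fun y hy => by
    by_contra h
    exact hj (Finset.mem_biUnion.2 ⟨y, hy, DFinsupp.mem_support_iff.2 h⟩)
  exact LinearMap.congr_fun this x

theorem exists_decomp {J : Type u} [DecidableEq J] (Z : J → ModuleCat.{u} A) {P : Type u} [AddCommGroup P] [Module A P]
    [Module.Finite A P] (g : P →ₗ[A] ⨁ j, Z j) : ∃ S : Finset J,
      (∀ j ∉ S, (DirectSum.component A J (fun j => Z j) j).comp g = 0) ∧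
      g = ∑ j ∈ S, (DirectSum.lof A J (fun j => Z j) j).comp ((DirectSum.component A J (fun j => Z j) j).comp g) := by
  obtain ⟨S, hS⟩ := exists_support Z g
  refine ⟨S, fun j hj => LinearMap.ext fun x => hS x j hj, LinearMap.ext fun x => DirectSum.ext_component A fun j => ?_⟩
  rw [LinearMap.sum_apply, map_sum]
  simp only [LinearMap.comp_apply]
  by_cases hj : j ∈ S
  · rw [Finset.sum_eq_single_of_mem j hj fun b _ hb => ?_, DirectSum.component.lof_self]
    exact DFinsupp.single_eq_of_ne hb.symm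
  · rw [Finset.sum_eq_zero fun b hb => ?_]
    · exact hS x j hj
    · exact DFinsupp.single_eq_of_ne fun e => hj (e ▸ hb)

theorem preserves_coproducts (J : Type u) : PreservesColimitsOfShape (Discrete J) F' := by
  haveI := additive F'
  refine ⟨fun {K} => ?_⟩
  suffices h : ∀ Z : J → ModuleCat.{u} A, PreservesColimit (Discrete.functor Z) F' by
    haveI := h fun j => K.obj ⟨j⟩
    exact preservesColimit_of_iso_diagram F' Discrete.natIsoFunctor.symm
  intro Z
  classical
  refine preservesColimit_of_preserves_colimit_cocone (ModuleCat.coproductCoconeIsColimit Z) ?_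
  let pt := (ModuleCat.coproductCocone Z).pt
  let π : ∀ j, pt ⟶ Z j := fun j => ModuleCat.ofHom (DirectSum.component A J (fun j => Z j) j)
  let ι' : ∀ j, Z j ⟶ pt := fun j => ModuleCat.ofHom (DirectSum.lof A J (fun j => Z j) j)
  have hfin : ∀ i : CostructuredArrow (fp A).ι pt, ∃ S : Finset J,
      (∀ j ∉ S, i.hom ≫ π j = 0) ∧ i.hom = ∑ j ∈ S, (i.hom ≫ π j) ≫ ι' j := by
    intro i
    obtain ⟨S, hS, hS'⟩ := exists_decomp (P := i.left.obj) Z i.hom.hom
    refine ⟨S, fun j hj => ModuleCat.hom_ext (hS j hj), ModuleCat.hom_ext ?_⟩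
    exact hS'.trans (ModuleCat.hom_sum (fun j => (i.hom ≫ π j) ≫ ι' j) S).symm
  choose S hS₀ hS₁ using hfin
  have hindep : ∀ (s : Cocone (Discrete.functor Z ⋙ F')) {P : ModuleCat.{u} A} (g : P ⟶ pt) (S T : Finset J),
      (∀ j ∉ S, g ≫ π j = 0) → (∀ j ∉ T, g ≫ π j = 0) →
      ∑ j ∈ S, F'.map (g ≫ π j) ≫ s.ι.app ⟨j⟩ = ∑ j ∈ T, F'.map (g ≫ π j) ≫ s.ι.app ⟨j⟩ := by
    intro s P g S T hS hT
    have h : ∀ U V : Finset J, U ⊆ V → (∀ j ∉ U, g ≫ π j = 0) →
        ∑ j ∈ U, F'.map (g ≫ π j) ≫ s.ι.app ⟨j⟩ = ∑ j ∈ V, F'.map (g ≫ π j) ≫ s.ι.app ⟨j⟩ := fun U V hUV hU =>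
      Finset.sum_subset hUV fun j _ hj => by rw [hU j hj, F'.map_zero, zero_comp]
    rw [h S (S ∪ T) Finset.subset_union_left hS, h T (S ∪ T) Finset.subset_union_right hT]
  let σ (s : Cocone (Discrete.functor Z ⋙ F')) : Cocone (CostructuredArrow.proj (fp A).ι pt ⋙ (fp A).ι ⋙ F') :=
    { pt := s.pt
      ι :=
        { app := fun i => ∑ j ∈ S i, F'.map (i.hom ≫ π j) ≫ s.ι.app ⟨j⟩
          naturality := fun i i' f => by
            refine Eq.trans ?_ (Category.comp_id _).symm
            change F'.map f.left.hom ≫ _ = _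
            have e : f.left.hom ≫ i'.hom = i.hom := CostructuredArrow.w f
            refine (Preadditive.comp_sum _ _ _).trans (Eq.trans ?_ (hindep s i.hom (S i) (S i') (hS₀ i) fun j hj => ?_).symm)
            · refine Finset.sum_congr rfl fun j _ => ?_
              refine (F'.map_comp_assoc _ _ _).symm.trans ?_
              exact congrArg (fun t => F'.map t ≫ s.ι.app ⟨j⟩) ((Category.assoc _ _ _).symm.trans (congrArg (· ≫ π j) e))
            · refine (congrArg (· ≫ π j) e.symm).trans ((Category.assoc _ _ _).trans ?_)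
              exact (congrArg (f.left.hom ≫ ·) (hS₀ i' j hj)).trans comp_zero } }
  exact
    { desc := fun s => (isColimitMap F' pt).desc (σ s)
      fac := fun s => by
        rintro ⟨j⟩
        refine hom_ext (F' := F') fun P _ _ _ p => ?_
        change F'.map (ModuleCat.ofHom p) ≫ F'.map (ι' j) ≫ _ = _
        rw [← F'.map_comp_assoc]
        refine ((isColimitMap F' pt).fac (σ s) (CostructuredArrow.mk (Y := obj P) (ModuleCat.ofHom p ≫ ι' j))).trans ?_
        change ∑ b ∈ _, F'.map ((ModuleCat.ofHom p ≫ ι' j) ≫ π b) ≫ s.ι.app ⟨b⟩ = _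
        rw [hindep s (ModuleCat.ofHom p ≫ ι' j) _ {j} (hS₀ _) fun b hb => ?_]
        · rw [Finset.sum_singleton]
          congr 2
          exact ModuleCat.hom_ext (LinearMap.ext fun x =>
            DirectSum.component.lof_self (R := A) (M := fun j => Z j) j (p x))
        · have hne : b ≠ j := fun e => hb (Finset.mem_singleton.2 e)
          exact ModuleCat.hom_ext (LinearMap.ext fun x => DFinsupp.single_eq_of_ne hne)
      uniq := fun s m hm => by
        refine (isColimitMap F' pt).hom_ext fun i => ?_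
        refine Eq.trans ?_ ((isColimitMap F' pt).fac (σ s) i).symm
        change F'.map i.hom ≫ m = ∑ j ∈ S i, _
        conv_lhs => rw [hS₁ i, F'.map_sum, Preadditive.sum_comp]
        refine Finset.sum_congr rfl fun j _ => ?_
        rw [F'.map_comp, Category.assoc]
        exact congrArg _ (hm ⟨j⟩) }

end FunMorLib
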