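import Mathlib

/-! Finitely presented modules are dense and finitely presentable among modules. -/

set_option autoImplicit false
set_option linter.style.haveILetI false
universe u

open CategoryTheory CategoryTheory.Limits

noncomputable section

namespace FunMorLib

variable (A : Type u) [CommRing A]

/-- Finitely presented modules. -/
abbrev fp : ObjectProperty (ModuleCat.{u} A) := fun M : ModuleCat.{u} A => Module.FinitePresentation A M

variable {A}

/-- A finitely presented module as an object of the subcategory. -/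
abbrev obj (P : Type u) [AddCommGroup P] [Module A P] [h : Module.FinitePresentation A P] :
    (fp A).FullSubcategory := ⟨ModuleCat.of A P, h⟩

/-- An index of the canonical diagram. -/
abbrev mkIdx {M : ModuleCat.{u} A} (P : Type u) [AddCommGroup P] [Module A P] [Module.FinitePresentation A P]
    (g : P →ₗ[A] M) : CostructuredArrow (fp A).ι M :=
  CostructuredArrow.mk (Y := obj P) (ModuleCat.ofHom g)

instance fp_inst (X : (fp A).FullSubcategory) : Module.FinitePresentation A X.obj := X.property

theorem fp_prod (P Q : Type u) [AddCommGroup P] [Module A P] [AddCommGroup Q] [Module A Q]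
    [Module.FinitePresentation A P] [Module.FinitePresentation A Q] : Module.FinitePresentation A (P × Q) :=
  inferInstance

theorem essentiallySmall_fp : ObjectProperty.EssentiallySmall.{u} (fp A) := by
  refine ⟨⟨.ofObj fun p : Σ n : ℕ, Submodule A (Fin n → A) => ModuleCat.of A ((Fin p.1 → A) ⧸ p.2), inferInstance,
    fun M hM => ?_⟩⟩
  haveI : Module.FinitePresentation A M := hM
  obtain ⟨n, π, hπ⟩ := Module.Finite.exists_fin' A M
  exact ⟨_, ⟨⟨n, LinearMap.ker π⟩⟩,
    ⟨((LinearMap.quotKerEquivOfSurjective π hπ).symm).toModuleIso⟩⟩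

instance : ObjectProperty.EssentiallySmall.{u} (fp A) := essentiallySmall_fp

instance essentiallySmall_idx (M : ModuleCat.{u} A) : EssentiallySmall.{u} (CostructuredArrow (fp A).ι M) :=
  inferInstance

instance isFiltered_idx (M : ModuleCat.{u} A) : IsFiltered (CostructuredArrow (fp A).ι M) where
  cocone_objs X Y :=
    ⟨mkIdx (X.left.obj × Y.left.obj) (X.hom.hom.coprod Y.hom.hom),
      CostructuredArrow.homMk ⟨ModuleCat.ofHom (LinearMap.inl A _ _)⟩ (by ext x; simp),
      CostructuredArrow.homMk ⟨ModuleCat.ofHom (LinearMap.inr A _ _)⟩ (by ext x; simp), trivial⟩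
  cocone_maps X Y f g := by
    let d : X.left.obj →ₗ[A] Y.left.obj := f.left.hom.hom - g.left.hom.hom
    haveI : Module.FinitePresentation A (Y.left.obj ⧸ LinearMap.range d) :=
      Module.finitePresentation_of_surjective _ (Submodule.mkQ_surjective _)
        (by rw [Submodule.ker_mkQ]; exact Submodule.fg_range d)
    have hd : LinearMap.range d ≤ LinearMap.ker Y.hom.hom := by
      rintro _ ⟨x, rfl⟩
      have hf := ConcreteCategory.congr_hom (CostructuredArrow.w f) x
      have hg := ConcreteCategory.congr_hom (CostructuredArrow.w g) x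
      rw [LinearMap.mem_ker, LinearMap.sub_apply, map_sub, sub_eq_zero]
      exact hf.trans hg.symm
    refine ⟨mkIdx (Y.left.obj ⧸ LinearMap.range d) ((LinearMap.range d).liftQ Y.hom.hom hd),
      CostructuredArrow.homMk ⟨ModuleCat.ofHom (LinearMap.range d).mkQ⟩ (by ext x; rfl), ?_⟩
    apply CostructuredArrow.hom_ext
    apply ObjectProperty.hom_ext
    refine ModuleCat.hom_ext (LinearMap.ext fun x => ?_)
    exact (Submodule.Quotient.eq _).2 ⟨x, rfl⟩
  nonempty := ⟨mkIdx A 0⟩

variable (M : ModuleCat.{u} A)

/-- The canonical cocone. -/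
abbrev canCocone : Cocone (CostructuredArrow.proj (fp A).ι M ⋙ (fp A).ι) :=
  { pt := M
    ι := { app := fun i => i.hom, naturality := fun i j f => (CostructuredArrow.w f).trans (Category.comp_id _).symm } }

/-- Every module is the colimit of the finitely presented modules mapping to it. -/
def isColimitCanCocone : IsColimit (canCocone M) := by
  refine Nonempty.some ?_
  refine ⟨?_⟩
  let D (s : Cocone (CostructuredArrow.proj (fp A).ι M ⋙ (fp A).ι)) (x : M) : s.pt :=
    (s.ι.app (mkIdx A (LinearMap.toSpanSingleton A M x))).hom (1 : A)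
  have hD : ∀ (s : Cocone (CostructuredArrow.proj (fp A).ι M ⋙ (fp A).ι)) (i : CostructuredArrow (fp A).ι M)
      (p : i.left.obj), D s (i.hom.hom p) = (s.ι.app i).hom p := fun s i p => by
    let a : mkIdx A (LinearMap.toSpanSingleton A M (i.hom.hom p)) ⟶ i :=
      CostructuredArrow.homMk ⟨ModuleCat.ofHom (LinearMap.toSpanSingleton A _ p)⟩
        (ModuleCat.hom_ext (LinearMap.ext_ring (by simp)))
    have h := ConcreteCategory.congr_hom (s.w a) (1 : A)
    exact h.symm.trans (congrArg (s.ι.app i).hom (one_smul A p))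
  have hD' : ∀ (s : Cocone (CostructuredArrow.proj (fp A).ι M ⋙ (fp A).ι)) (P : Type u) [AddCommGroup P]
      [Module A P] [Module.FinitePresentation A P] (g : P →ₗ[A] M) (p : P),
      D s (g p) = ((s.ι.app (mkIdx P g)).hom : P →ₗ[A] s.pt) p :=
    fun s P _ _ _ g p => hD s (mkIdx P g) p
  have hlin₂ : ∀ (N : ModuleCat.{u} A) (L : A × A →ₗ[A] N), L (1, 1) = L (1, 0) + L (0, 1) := fun N L => by
    rw [← map_add, Prod.mk_add_mk, add_zero, zero_add]
  have hlin₁ : ∀ (N : ModuleCat.{u} A) (L : A →ₗ[A] N) (a : A), L a = a • L 1 := fun N L a => by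
    rw [← map_smul, smul_eq_mul, mul_one]
  have hadd : ∀ s x y, D s (x + y) = D s x + D s y := fun s x y => by
    let g := (LinearMap.toSpanSingleton A M x).coprod (LinearMap.toSpanSingleton A M y)
    have e1 := hD' s (A × A) g (1, 1)
    have e2 := hD' s (A × A) g (1, 0)
    have e3 := hD' s (A × A) g (0, 1)
    rw [show g (1, 1) = x + y by simp [g]] at e1
    rw [show g (1, 0) = x by simp [g]] at e2
    rw [show g (0, 1) = y by simp [g]] at e3
    exact e1.trans ((hlin₂ _ ((s.ι.app (mkIdx (A × A) g)).hom : A × A →ₗ[A] s.pt)).trans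
      (congrArg₂ (· + ·) e2.symm e3.symm))
  have hsmul : ∀ s (a : A) x, D s (a • x) = a • D s x := fun s a x => by
    have e1 := hD' s A (LinearMap.toSpanSingleton A M x) a
    have e2 := hD' s A (LinearMap.toSpanSingleton A M x) 1
    rw [LinearMap.toSpanSingleton_apply] at e1
    rw [LinearMap.toSpanSingleton_apply, one_smul] at e2
    exact e1.trans ((hlin₁ _ ((s.ι.app (mkIdx A (LinearMap.toSpanSingleton A M x))).hom : A →ₗ[A] s.pt) a).trans
      (congrArg (a • ·) e2.symm))
  exact
    { desc := fun s => ModuleCat.ofHom { toFun := D s, map_add' := hadd s, map_smul' := hsmul s }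
      fac := fun s i => ModuleCat.hom_ext (LinearMap.ext fun p => hD s i p)
      uniq := fun s m hm => ModuleCat.hom_ext (LinearMap.ext fun x => by
        have h := ConcreteCategory.congr_hom (hm (mkIdx A (LinearMap.toSpanSingleton A M x))) (1 : A)
        exact (congrArg m.hom (one_smul A x).symm).trans h) }

section Presentable

variable {J : Type u} [SmallCategory J] [IsFiltered J] {K : J ⥤ ModuleCat.{u} A} {c : Cocone K} (hc : IsColimit c)

include hc

/-- Maps out of a finite module agreeing in the colimit agree at some stage. -/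
theorem exists_eq_of_finite {P : Type u} [AddCommGroup P] [Module A P] [Module.Finite A P] {j : J}
    (g g' : P →ₗ[A] K.obj j) (h : ∀ x, (c.ι.app j).hom (g x) = (c.ι.app j).hom (g' x)) :
    ∃ (k : J) (a : j ⟶ k), (K.map a).hom.comp g = (K.map a).hom.comp g' := by
  classical
  obtain ⟨s, hs⟩ := Module.Finite.fg_top (R := A) (M := P)
  have key : ∀ t : Finset P, ∃ (k : J) (a : j ⟶ k), ∀ x ∈ t, (K.map a).hom (g x) = (K.map a).hom (g' x) := by
    intro t
    induction t using Finset.induction_on with
    | empty => exact ⟨j, 𝟙 j, by simp⟩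
    | insert x t hx ih =>
      obtain ⟨k, a, ha⟩ := ih
      have e : ∀ y : K.obj j, c.ι.app k ((K.map a).hom y) = (c.ι.app j).hom y := fun y =>
        ConcreteCategory.congr_hom (c.w a) y
      obtain ⟨l, f₁, f₂, hf⟩ := Concrete.isColimit_exists_of_rep_eq K hc _ _ (((e (g x)).trans (h x)).trans (e (g' x)).symm)
      refine ⟨IsFiltered.coeq f₁ f₂, a ≫ f₁ ≫ IsFiltered.coeqHom f₁ f₂, fun y hy => ?_⟩
      rw [Finset.mem_insert] at hy
      rcases hy with rfl | hy
      · conv_rhs => rw [IsFiltered.coeq_condition f₁ f₂]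
        simp only [Functor.map_comp, ModuleCat.hom_comp, LinearMap.comp_apply]
        exact congrArg _ hf
      · simp only [Functor.map_comp, ModuleCat.hom_comp, LinearMap.comp_apply, ha y hy]
  obtain ⟨k, a, ha⟩ := key s
  exact ⟨k, a, LinearMap.ext_on hs fun x hx => ha x hx⟩

/-- Maps out of a finitely presented module factor through some stage. -/
theorem exists_factor {P : Type u} [AddCommGroup P] [Module A P] [Module.FinitePresentation A P]
    (g : P →ₗ[A] c.pt) : ∃ (j : J) (g₀ : P →ₗ[A] K.obj j), (c.ι.app j).hom.comp g₀ = g := by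
  classical
  obtain ⟨n, π, hπ⟩ := Module.Finite.exists_fin' A P
  choose j₀ x₀ hx₀ using fun i : Fin n => Concrete.isColimit_exists_rep K hc (g (π (Pi.single i 1)))
  obtain ⟨j, hj⟩ := IsFiltered.sup_objs_exists (Finset.univ.image j₀)
  let a : ∀ i, j₀ i ⟶ j := fun i => (hj (Finset.mem_image_of_mem j₀ (Finset.mem_univ i))).some
  let φ : (Fin n → A) →ₗ[A] K.obj j := (Pi.basisFun A (Fin n)).constr A fun i => (K.map (a i)).hom (x₀ i)
  have hφ : (c.ι.app j).hom.comp φ = g.comp π := (Pi.basisFun A (Fin n)).ext fun i => by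
    simp only [φ, LinearMap.comp_apply, Module.Basis.constr_basis]
    rw [Pi.basisFun_apply]
    exact (ConcreteCategory.congr_hom (c.w (a i)) (x₀ i)).trans (hx₀ i)
  haveI : Module.Finite A (LinearMap.ker π) := Module.Finite.iff_fg.2 (Module.FinitePresentation.fg_ker π hπ)
  obtain ⟨k, b, hb⟩ := exists_eq_of_finite hc (φ.comp (LinearMap.ker π).subtype) 0 fun x => by
    rw [LinearMap.zero_apply, map_zero, ← LinearMap.comp_apply]
    refine (LinearMap.congr_fun hφ x.1).trans ?_
    rw [LinearMap.comp_apply, x.2, map_zero]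
  let ψ := (LinearMap.ker π).liftQ ((K.map b).hom.comp φ) fun x hx => by
    have := LinearMap.congr_fun hb ⟨x, hx⟩
    simpa using this
  refine ⟨k, ψ.comp (LinearMap.quotKerEquivOfSurjective π hπ).symm.toLinearMap, LinearMap.ext fun p => ?_⟩
  obtain ⟨v, rfl⟩ := hπ p
  simp only [LinearMap.comp_apply, LinearEquiv.coe_coe]
  rw [(LinearEquiv.symm_apply_eq _).2 (LinearMap.quotKerEquivOfSurjective_apply_mk π hπ v).symm]
  exact (ConcreteCategory.congr_hom (c.w b) (φ v)).trans (LinearMap.congr_fun hφ v)

end Presentable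

end FunMorLib
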