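import Groth.Agent.FunMorLib.Basic

/-! Extending functors from finitely presented modules. -/

set_option autoImplicit false
set_option linter.style.haveILetI false
universe u v' u'

open CategoryTheory CategoryTheory.Limits

noncomputable section

namespace FunMorLib

variable {A : Type u} [CommRing A] {B : Type u'} [Category.{v'} B]

theorem hasColimitsOfShape_idx [HasFilteredColimitsOfSize.{u, u} B] (M : ModuleCat.{u} A) :
    HasColimitsOfShape (CostructuredArrow (fp A).ι M) B := by
  let e := equivSmallModel.{u} (CostructuredArrow (fp A).ι M)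
  haveI : IsFiltered (SmallModel.{u} (CostructuredArrow (fp A).ι M)) := IsFiltered.of_equivalence e
  exact hasColimitsOfShape_of_equivalence e.symm

/-- Functors commuting with filtered colimits preserve the canonical colimit. -/
theorem preservesColimit_idx (F' : ModuleCat.{u} A ⥤ B) [PreservesFilteredColimitsOfSize.{u, u} F']
    (M : ModuleCat.{u} A) : PreservesColimitsOfShape (CostructuredArrow (fp A).ι M) F' := by
  let e := equivSmallModel.{u} (CostructuredArrow (fp A).ι M)
  haveI : IsFiltered (SmallModel.{u} (CostructuredArrow (fp A).ι M)) := IsFiltered.of_equivalence e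
  exact preservesColimitsOfShape_of_equiv e.symm F'

/-- The image of the canonical colimit. -/
def isColimitMap (F' : ModuleCat.{u} A ⥤ B) [PreservesFilteredColimitsOfSize.{u, u} F'] (M : ModuleCat.{u} A) :
    IsColimit (F'.mapCocone (canCocone M)) :=
  haveI := preservesColimit_idx F' M
  isColimitOfPreserves F' (isColimitCanCocone M)

/-- Morphisms out of `F' M` are determined on finitely presented modules. -/
theorem hom_ext {F' : ModuleCat.{u} A ⥤ B} [PreservesFilteredColimitsOfSize.{u, u} F'] {M : ModuleCat.{u} A} {T : B}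
    {s t : F'.obj M ⟶ T}
    (h : ∀ (P : Type u) [AddCommGroup P] [Module A P] [Module.FinitePresentation A P] (g : P →ₗ[A] M),
      F'.map (ModuleCat.ofHom g) ≫ s = F'.map (ModuleCat.ofHom g) ≫ t) : s = t :=
  (isColimitMap F' M).hom_ext fun i => h i.left.obj i.hom.hom

variable {F : (fp A).FullSubcategory ⥤ B}

/-- A pointwise left Kan extension commutes with filtered colimits. -/
theorem preserves_of_pointwise (G : ModuleCat.{u} A ⥤ B) (η : F ⟶ (fp A).ι ⋙ G)
    (hE : (Functor.LeftExtension.mk G η).IsPointwiseLeftKanExtension) :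
    PreservesFilteredColimitsOfSize.{u, u} G := by
  refine ⟨fun J _ _ => ⟨fun {K} => ⟨fun {c} hc => ?_⟩⟩⟩
  -- the components of a cocone at a finitely presented module mapping to the colimit
  have comp_eq : ∀ (s : Cocone (K ⋙ G)) (X : (fp A).FullSubcategory) {j j' : J}
      (g : X.obj ⟶ K.obj j) (g' : X.obj ⟶ K.obj j') (_ : g ≫ c.ι.app j = g' ≫ c.ι.app j'),
      η.app X ≫ G.map g ≫ s.ι.app j = η.app X ≫ G.map g' ≫ s.ι.app j' := by
    intro s X j j' g g' h
    obtain ⟨k, a, ha⟩ := exists_eq_of_finite hc (P := X.obj)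
      ((g ≫ K.map (IsFiltered.leftToMax j j')).hom) ((g' ≫ K.map (IsFiltered.rightToMax j j')).hom) fun x => by
        have e : (g ≫ K.map (IsFiltered.leftToMax j j')) ≫ c.ι.app _ = (g' ≫ K.map (IsFiltered.rightToMax j j')) ≫ c.ι.app _ := by
          simp only [Category.assoc, c.w, h]
        exact ConcreteCategory.congr_hom e x
    have ha' : g ≫ K.map (IsFiltered.leftToMax j j' ≫ a) = g' ≫ K.map (IsFiltered.rightToMax j j' ≫ a) := by
      simp only [Functor.map_comp, ← Category.assoc]
      exact ModuleCat.hom_ext ha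
    rw [← s.w (IsFiltered.leftToMax j j' ≫ a), ← s.w (IsFiltered.rightToMax j j' ≫ a)]
    simp only [Functor.comp_map]
    rw [← G.map_comp_assoc, ← G.map_comp_assoc, ha']
  have hfac : ∀ i : CostructuredArrow (fp A).ι c.pt, ∃ (j : J) (g₀ : i.left.obj ⟶ K.obj j), g₀ ≫ c.ι.app j = i.hom :=
    fun i => by
      obtain ⟨j, g₀, hg₀⟩ := exists_factor hc (P := i.left.obj) i.hom.hom
      exact ⟨j, ModuleCat.ofHom g₀, ModuleCat.hom_ext hg₀⟩
  choose J₀ g₀ hg₀ using hfac
  let σ (s : Cocone (K ⋙ G)) : Cocone (CostructuredArrow.proj (fp A).ι c.pt ⋙ F) :=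
    { pt := s.pt
      ι :=
        { app := fun i => η.app i.left ≫ G.map (g₀ i) ≫ s.ι.app (J₀ i)
          naturality := fun i i' f => by
            refine Eq.trans ?_ (Category.comp_id _).symm
            refine (reassoc_of% (η.naturality f.left)) _ |>.trans ?_
            refine (congrArg (η.app i.left ≫ ·) (G.map_comp_assoc (f.left.hom) (g₀ i') (s.ι.app (J₀ i'))).symm).trans ?_
            exact comp_eq s i.left (f.left.hom ≫ g₀ i') (g₀ i)
              (by rw [Category.assoc, hg₀, hg₀]; exact CostructuredArrow.w f) } }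
  exact ⟨{
    desc := fun s => (hE c.pt).desc (σ s)
    fac := fun s j => by
      refine (hE (K.obj j)).hom_ext fun i => ?_
      have h := (hE c.pt).fac (σ s) (CostructuredArrow.mk (Y := i.left) (i.hom ≫ c.ι.app j))
      change (η.app i.left ≫ G.map i.hom) ≫ G.map (c.ι.app j) ≫ _ = (η.app i.left ≫ G.map i.hom) ≫ s.ι.app j
      change (η.app i.left ≫ G.map (i.hom ≫ c.ι.app j)) ≫ _ = _ at h
      rw [Category.assoc, Category.assoc, ← G.map_comp_assoc]
      refine (Category.assoc _ _ _).symm.trans (h.trans ?_)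
      exact comp_eq s i.left (g₀ (CostructuredArrow.mk (Y := i.left) (i.hom ≫ c.ι.app j))) i.hom
        (hg₀ (CostructuredArrow.mk (Y := i.left) (i.hom ≫ c.ι.app j)))
    uniq := fun s m hm => by
      refine (hE c.pt).hom_ext fun i => ?_
      refine Eq.trans ?_ ((hE c.pt).fac (σ s) i).symm
      change (η.app i.left ≫ G.map i.hom) ≫ m = _
      rw [← hg₀ i, Functor.map_comp, Category.assoc, Category.assoc]
      exact congrArg (fun t => η.app i.left ≫ G.map (g₀ i) ≫ t) (hm (J₀ i)) }⟩

/-- A functor commuting with filtered colimits is the extension of its restriction. -/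
def isPointwise (F' : ModuleCat.{u} A ⥤ B) [PreservesFilteredColimitsOfSize.{u, u} F']
    (e : (fp A).ι ⋙ F' ≅ F) : (Functor.LeftExtension.mk F' e.inv).IsPointwiseLeftKanExtension := fun M =>
  IsColimit.ofIsoColimit
    ((IsColimit.precomposeInvEquiv (Functor.isoWhiskerLeft (CostructuredArrow.proj (fp A).ι M) e) _).symm
      (isColimitMap F' M))
    (Cocone.ext (Iso.refl _) (fun i => (Category.comp_id _).trans rfl))

theorem exists_extension [HasFilteredColimitsOfSize.{u, u} B] :
    ∃ F' : ModuleCat.{u} A ⥤ B, PreservesFilteredColimitsOfSize.{u, u} F' ∧ Nonempty ((fp A).ι ⋙ F' ≅ F) := by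
  haveI : Functor.HasPointwiseLeftKanExtension (fp A).ι F := fun M =>
    haveI := hasColimitsOfShape_idx (B := B) M
    inferInstanceAs (HasColimit _)
  let h := Functor.pointwiseLeftKanExtensionIsPointwiseLeftKanExtension (fp A).ι F
  haveI : IsIso (Functor.LeftExtension.mk _ (Functor.pointwiseLeftKanExtensionUnit (fp A).ι F)).hom := h.isIso_hom
  exact ⟨_, preserves_of_pointwise _ (Functor.pointwiseLeftKanExtensionUnit (fp A).ι F) h,
    ⟨(asIso (Functor.LeftExtension.mk _ (Functor.pointwiseLeftKanExtensionUnit (fp A).ι F)).hom).symm⟩⟩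

theorem unique_extension (F₁ F₂ : ModuleCat.{u} A ⥤ B) [PreservesFilteredColimitsOfSize.{u, u} F₁]
    [PreservesFilteredColimitsOfSize.{u, u} F₂] (e : (fp A).ι ⋙ F₁ ≅ (fp A).ι ⋙ F₂) : Nonempty (F₁ ≅ F₂) := by
  haveI h₁ : F₁.IsLeftKanExtension e.inv := (isPointwise F₁ e).isLeftKanExtension
  haveI h₂ : F₂.IsLeftKanExtension (Iso.refl ((fp A).ι ⋙ F₂)).inv :=
    (isPointwise F₂ (Iso.refl ((fp A).ι ⋙ F₂))).isLeftKanExtension
  exact ⟨Functor.leftKanExtensionUnique F₁ e.inv F₂ (Iso.refl ((fp A).ι ⋙ F₂)).inv⟩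

end FunMorLib
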