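import Groth.Agent.FunMorLib.Additive
import Groth.Agent.DRingLib.CoherentRing

/-! Left exact extensions over coherent rings. -/

set_option autoImplicit false
set_option linter.style.haveILetI false
universe u v' u'

open CategoryTheory CategoryTheory.Limits

noncomputable section

namespace FunMorLib

variable {A : Type u} [CommRing A]

instance hasZeroObject_fp' : HasZeroObject (fp A).FullSubcategory :=
  ⟨⟨obj PUnit.{u + 1}, by
    rw [IsZero.iff_id_eq_zero]
    exact ObjectProperty.hom_ext _ (ModuleCat.hom_ext (LinearMap.ext fun x => Subsingleton.elim _ _))⟩⟩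

instance hasBinaryBiproducts_fp' : HasBinaryBiproducts (fp A).FullSubcategory := by
  refine ⟨fun P Q => ⟨⟨?_, ?_⟩⟩⟩
  · exact
      { pt := obj (P.obj × Q.obj)
        fst := ⟨ModuleCat.ofHom (LinearMap.fst A P.obj Q.obj)⟩
        snd := ⟨ModuleCat.ofHom (LinearMap.snd A P.obj Q.obj)⟩
        inl := ⟨ModuleCat.ofHom (LinearMap.inl A P.obj Q.obj)⟩
        inr := ⟨ModuleCat.ofHom (LinearMap.inr A P.obj Q.obj)⟩
        inl_fst := by ext x; rfl
        inl_snd := by ext x; rfl
        inr_fst := by ext x; rfl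
        inr_snd := by ext x; rfl }
  · refine isBinaryBilimitOfTotal _ ?_
    apply ObjectProperty.hom_ext
    refine ModuleCat.hom_ext (LinearMap.ext fun x => ?_)
    change ((x.1, (0 : Q.obj)) + ((0 : P.obj), x.2) : P.obj × Q.obj) = x
    simp

/-- Maps between finitely presented modules. -/
abbrev fpArrow (A : Type u) [CommRing A] : ObjectProperty (Arrow (ModuleCat.{u} A)) :=
  ObjectProperty.comma (𝟭 (ModuleCat.{u} A)) (𝟭 (ModuleCat.{u} A)) (fp A) (fp A)

instance essentiallySmall_fpArrow : ObjectProperty.EssentiallySmall.{u} (fpArrow A) := by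
  haveI : ObjectProperty.EssentiallySmall.{u} (fp A) := essentiallySmall_fp
  obtain ⟨Q, hQ, h₁, h₂⟩ := ObjectProperty.EssentiallySmall.exists_small_le.{u} (fp A)
  haveI : Small.{u} (Subtype Q) := hQ
  refine ⟨⟨ObjectProperty.comma (𝟭 _) (𝟭 _) Q Q, ?_, fun w hw => ?_⟩⟩
  · exact small_of_surjective
      (α := Σ (X₁ : Subtype Q) (X₂ : Subtype Q), (X₁.val : ModuleCat.{u} A) ⟶ X₂.val)
      (f := fun ⟨X₁, X₂, f⟩ ↦ ⟨Comma.mk _ _ f, X₁.prop, X₂.prop⟩)
      (fun f ↦ ⟨⟨⟨_, f.prop.1⟩, ⟨_, f.prop.2⟩, f.val.hom⟩, rfl⟩)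
  · obtain ⟨X₁, hX₁, ⟨e₁⟩⟩ := h₂ _ hw.1
    obtain ⟨X₂, hX₂, ⟨e₂⟩⟩ := h₂ _ hw.2
    exact ⟨Comma.mk _ _ (e₁.inv ≫ w.hom ≫ e₂.hom), ⟨hX₁, hX₂⟩, ⟨Comma.isoMk e₁ e₂⟩⟩

variable {M N : ModuleCat.{u} A} (f : M ⟶ N)

/-- The maps of finitely presented modules over `f`. -/
abbrev Idx := CostructuredArrow (fpArrow A).ι (Arrow.mk f)

instance fp_left (i : Idx f) : Module.FinitePresentation A i.left.obj.left := i.left.property.1

instance fp_right (i : Idx f) : Module.FinitePresentation A i.left.obj.right := i.left.property.2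

variable {f}

/-- An index. -/
abbrev Idx.mk (P Q : Type u) [AddCommGroup P] [Module A P] [hP : Module.FinitePresentation A P] [AddCommGroup Q]
    [Module A Q] [hQ : Module.FinitePresentation A Q] (u₀ : P →ₗ[A] Q) (p : P →ₗ[A] M) (q : Q →ₗ[A] N)
    (w : q.comp u₀ = f.hom.comp p) : Idx f :=
  CostructuredArrow.mk (Y := (⟨Arrow.mk (ModuleCat.ofHom u₀), hP, hQ⟩ : (fpArrow A).FullSubcategory))
    (Arrow.homMk (ModuleCat.ofHom p) (ModuleCat.ofHom q) (ModuleCat.hom_ext w.symm))

theorem Idx.w (i : Idx f) (x : i.left.obj.left) :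
    i.hom.right.hom (i.left.obj.hom.hom x) = f.hom (i.hom.left.hom x) :=
  (ConcreteCategory.congr_hom i.hom.w x).symm

variable (f)

/-- A morphism of indices. -/
abbrev Idx.homMk {i j : Idx f} (a : i.left.obj.left →ₗ[A] j.left.obj.left) (b : i.left.obj.right →ₗ[A] j.left.obj.right)
    (h : ∀ x, j.left.obj.hom.hom (a x) = b (i.left.obj.hom.hom x))
    (hp : ∀ x, j.hom.left.hom (a x) = i.hom.left.hom x) (hq : ∀ y, j.hom.right.hom (b y) = i.hom.right.hom y) :
    i ⟶ j :=
  CostructuredArrow.homMk ⟨Arrow.homMk (ModuleCat.ofHom a) (ModuleCat.ofHom b) (ModuleCat.hom_ext (LinearMap.ext h))⟩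
    (Arrow.hom_ext _ _ (ModuleCat.hom_ext (LinearMap.ext hp)) (ModuleCat.hom_ext (LinearMap.ext hq)))

/-- Dividing the target by a finitely generated submodule, and the source by one over it. -/
theorem exists_quot (i : Idx f) (S : Submodule A i.left.obj.left) (hS : S.FG) (T : Submodule A i.left.obj.right)
    (hT : T.FG) (hu : ∀ x ∈ S, i.left.obj.hom.hom x ∈ T) (hp : ∀ x ∈ S, i.hom.left.hom x = 0)
    (hq : ∀ y ∈ T, i.hom.right.hom y = 0) :
    ∃ (j : Idx f) (a : i ⟶ j), (∀ x ∈ S, a.left.hom.left.hom x = 0) ∧ ∀ y ∈ T, a.left.hom.right.hom y = 0 := by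
  haveI : Module.FinitePresentation A (i.left.obj.left ⧸ S) :=
    Module.finitePresentation_of_surjective _ S.mkQ_surjective (by rwa [Submodule.ker_mkQ])
  haveI : Module.FinitePresentation A (i.left.obj.right ⧸ T) :=
    Module.finitePresentation_of_surjective _ T.mkQ_surjective (by rwa [Submodule.ker_mkQ])
  refine ⟨Idx.mk (i.left.obj.left ⧸ S) (i.left.obj.right ⧸ T) (S.mapQ T i.left.obj.hom.hom hu)
    (S.liftQ i.hom.left.hom hp) (T.liftQ i.hom.right.hom hq) (LinearMap.ext fun z => ?_),
    Idx.homMk f S.mkQ T.mkQ (fun _ => rfl) (fun _ => rfl) (fun _ => rfl),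
    fun x hx => (Submodule.Quotient.mk_eq_zero S).2 hx, fun y hy => (Submodule.Quotient.mk_eq_zero T).2 hy⟩
  induction z using Submodule.Quotient.induction_on with | _ x => exact Idx.w i x

instance isFiltered : IsFiltered (Idx f) where
  cocone_objs X Y := by
    refine ⟨Idx.mk (X.left.obj.left × Y.left.obj.left) (X.left.obj.right × Y.left.obj.right)
      (X.left.obj.hom.hom.prodMap Y.left.obj.hom.hom) (X.hom.left.hom.coprod Y.hom.left.hom)
      (X.hom.right.hom.coprod Y.hom.right.hom) (LinearMap.ext fun z => ?_),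
      Idx.homMk f (LinearMap.inl A _ _) (LinearMap.inl A _ _) (fun x => ?_) (fun x => ?_) (fun x => ?_),
      Idx.homMk f (LinearMap.inr A _ _) (LinearMap.inr A _ _) (fun x => ?_) (fun x => ?_) (fun x => ?_), trivial⟩
    · show X.hom.right.hom (X.left.obj.hom.hom z.1) + Y.hom.right.hom (Y.left.obj.hom.hom z.2) =
        f.hom (X.hom.left.hom z.1 + Y.hom.left.hom z.2)
      rw [map_add, Idx.w, Idx.w]
    all_goals simp
  cocone_maps X Y a b := by
    let dP : X.left.obj.left →ₗ[A] Y.left.obj.left := a.left.hom.left.hom - b.left.hom.left.hom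
    let dQ : X.left.obj.right →ₗ[A] Y.left.obj.right := a.left.hom.right.hom - b.left.hom.right.hom
    have hw := fun (c : X ⟶ Y) => CostructuredArrow.w c
    obtain ⟨j, c, hc₁, hc₂⟩ := exists_quot f Y (LinearMap.range dP) (Submodule.fg_range dP)
      ((LinearMap.range dP).map Y.left.obj.hom.hom ⊔ LinearMap.range dQ)
      (((Submodule.fg_range dP).map _).sup (Submodule.fg_range dQ))
      (fun x hx => Submodule.mem_sup_left ⟨x, hx, rfl⟩)
      (fun x hx => by
        obtain ⟨z, rfl⟩ := hx
        have h1 := ConcreteCategory.congr_hom (congrArg (fun t => t.left) (hw a)) z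
        have h2 := ConcreteCategory.congr_hom (congrArg (fun t => t.left) (hw b)) z
        rw [LinearMap.sub_apply, map_sub, sub_eq_zero]
        exact h1.trans h2.symm)
      (fun y hy => by
        obtain ⟨s, ⟨x, ⟨z, rfl⟩, rfl⟩, t, ⟨w', rfl⟩, rfl⟩ := Submodule.mem_sup.1 hy
        have h1 := ConcreteCategory.congr_hom (congrArg (fun t => t.left) (hw a)) z
        have h2 := ConcreteCategory.congr_hom (congrArg (fun t => t.left) (hw b)) z
        have h3 := ConcreteCategory.congr_hom (congrArg (fun t => t.right) (hw a)) w'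
        have h4 := ConcreteCategory.congr_hom (congrArg (fun t => t.right) (hw b)) w'
        rw [map_add, Idx.w, LinearMap.sub_apply, LinearMap.sub_apply, map_sub, map_sub, map_sub,
          show Y.hom.left.hom (a.left.hom.left.hom z) = Y.hom.left.hom (b.left.hom.left.hom z) from h1.trans h2.symm,
          show Y.hom.right.hom (a.left.hom.right.hom w') = Y.hom.right.hom (b.left.hom.right.hom w') from h3.trans h4.symm]
        simp)
    refine ⟨j, c, ?_⟩
    apply CostructuredArrow.hom_ext
    apply ObjectProperty.hom_ext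
    refine Arrow.hom_ext _ _ (ModuleCat.hom_ext (LinearMap.ext fun z => ?_))
      (ModuleCat.hom_ext (LinearMap.ext fun z => ?_))
    · exact sub_eq_zero.1 ((map_sub _ _ _).symm.trans (hc₁ _ ⟨z, rfl⟩))
    · exact sub_eq_zero.1 ((map_sub _ _ _).symm.trans (hc₂ _ (Submodule.mem_sup_right ⟨z, rfl⟩)))
  nonempty := ⟨Idx.mk PUnit.{u + 1} PUnit.{u + 1} 0 0 0 (by simp)⟩

/-- Kernels transported along a ladder of isomorphisms. -/
def isLimitOfLadder {B : Type u'} [Category.{v'} B] [HasZeroMorphisms B] {X Y Z X' Y' Z' : B} {k : X ⟶ Y}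
    {g : Y ⟶ Z} {w : k ≫ g = 0} (h : IsLimit (KernelFork.ofι k w)) {k' : X' ⟶ Y'} {g' : Y' ⟶ Z'} (w' : k' ≫ g' = 0)
    (φx : X ≅ X') (φy : Y ≅ Y') (φz : Z ≅ Z') (sq₁ : k ≫ φy.hom = φx.hom ≫ k') (sq₂ : g ≫ φz.hom = φy.hom ≫ g') :
    IsLimit (KernelFork.ofι k' w') :=
  KernelFork.IsLimit.ofι k' w'
    (fun t ht => (KernelFork.IsLimit.lift' h (t ≫ φy.inv) (by
      rw [← cancel_mono φz.hom, zero_comp, Category.assoc, Category.assoc, sq₂, φy.inv_hom_id_assoc, ht])).1 ≫ φx.hom)
    (fun t ht => by
      rw [Category.assoc, ← sq₁, ← Category.assoc]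
      erw [(KernelFork.IsLimit.lift' h (t ≫ φy.inv) _).2]
      rw [Category.assoc, φy.inv_hom_id, Category.comp_id])
    (fun t ht m hm => by
      rw [← Iso.comp_inv_eq]
      refine Fork.IsLimit.hom_ext h ?_
      erw [(KernelFork.IsLimit.lift' h (t ≫ φy.inv) _).2]
      simp only [Fork.ι_ofι, Category.assoc]
      rw [← hm, Category.assoc]
      congr 1
      rw [Iso.eq_comp_inv, Category.assoc, sq₁, φx.inv_hom_id_assoc])

section Elements

variable {f}
variable {G : Idx f ⥤ ModuleCat.{u} A}

/-- A filtered colimit recognised on elements. -/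
theorem nonempty_isColimit (c : Cocone G) (hsurj : ∀ x : c.pt, ∃ (i : Idx f) (z : G.obj i), (c.ι.app i).hom z = x)
    (hinj : ∀ (i : Idx f) (z : G.obj i), (c.ι.app i).hom z = 0 → ∃ (k : Idx f) (a : i ⟶ k), (G.map a).hom z = 0) :
    Nonempty (IsColimit c) := by
  let e := equivSmallModel.{u} (Idx f)
  haveI : IsFiltered (SmallModel.{u} (Idx f)) := IsFiltered.of_equivalence e
  haveI : HasColimitsOfShape (Idx f) (ModuleCat.{u} A) := hasColimitsOfShape_of_equivalence e.symm
  haveI : PreservesColimitsOfShape (Idx f) (forget (ModuleCat.{u} A)) := preservesColimitsOfShape_of_equiv e.symm _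
  haveI : ReflectsColimit G (forget (ModuleCat.{u} A)) := reflectsColimit_of_reflectsIsomorphisms G _
  refine ⟨isColimitOfReflects (forget (ModuleCat.{u} A)) (Types.FilteredColimit.isColimitOf _ _ (fun x => ?_)
    (fun i j xi xj h => ?_))⟩
  · obtain ⟨i, z, hz⟩ := hsurj x
    exact ⟨i, z, hz.symm⟩
  · let m := IsFiltered.max i j
    have hw : ∀ {i j : Idx f} (a : i ⟶ j) (z : G.obj i), (c.ι.app j).hom ((G.map a).hom z) = (c.ι.app i).hom z :=
      fun a z => ConcreteCategory.congr_hom (c.w a) z
    obtain ⟨k, a, ha⟩ := hinj m ((G.map (IsFiltered.leftToMax i j)).hom xi - (G.map (IsFiltered.rightToMax i j)).hom xj)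
      (by rw [map_sub, hw, hw, sub_eq_zero]; exact h)
    refine ⟨k, IsFiltered.leftToMax i j ≫ a, IsFiltered.rightToMax i j ≫ a, ?_⟩
    rw [map_sub, sub_eq_zero] at ha
    show (G.map (_ ≫ a)).hom xi = (G.map (_ ≫ a)).hom xj
    rw [Functor.map_comp, Functor.map_comp]
    exact ha

end Elements

variable (hcoh : ∀ I : Ideal A, I.FG → Module.FinitePresentation A I)
variable {B : Type u'} [Category.{v'} B] [Preadditive B] [HasFiniteBiproducts B]
  [HasFilteredColimitsOfSize.{u, u} B] (F' : ModuleCat.{u} A ⥤ B) [PreservesFilteredColimitsOfSize.{u, u} F']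
  [PreservesFiniteLimits ((fp A).ι ⋙ F')]

omit [HasFilteredColimitsOfSize.{u, u} B] [PreservesFilteredColimitsOfSize.{u, u} F'] in
theorem additive_restrict_of_limits : ((fp A).ι ⋙ F').Additive := by
  haveI : HasZeroObject B := hasZeroObject_of_hasInitial_object
  haveI : ((fp A).ι ⋙ F').PreservesZeroMorphisms := inferInstance
  haveI := preservesBinaryBiproducts_of_preservesBinaryProducts ((fp A).ι ⋙ F')
  exact Functor.additive_of_preservesBinaryBiproducts _

/-- Kernels of maps of finitely presented modules go to kernels. -/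
theorem nonempty_isLimit_ker (hcoh : ∀ I : Ideal A, I.FG → Module.FinitePresentation A I) (i : Idx f) :
    ∀ w, Nonempty (IsLimit (KernelFork.ofι (f := F'.map i.left.obj.hom)
      (F'.map (ModuleCat.ofHom (LinearMap.ker i.left.obj.hom.hom).subtype)) w)) := by
  intro w
  haveI := additive_restrict_of_limits F'
  haveI : Module.FinitePresentation A (LinearMap.ker i.left.obj.hom.hom) :=
    Groth.Agent.DRingLib.finitePresentation_ker hcoh i.left.obj.hom.hom
  let P : (fp A).FullSubcategory := ⟨i.left.obj.left, i.left.property.1⟩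
  let Q : (fp A).FullSubcategory := ⟨i.left.obj.right, i.left.property.2⟩
  let u₀ : P ⟶ Q := ⟨i.left.obj.hom⟩
  let k : obj (A := A) (LinearMap.ker i.left.obj.hom.hom) ⟶ P :=
    ⟨ModuleCat.ofHom (LinearMap.ker i.left.obj.hom.hom).subtype⟩
  have hk : k ≫ u₀ = 0 := ObjectProperty.hom_ext _ (ModuleCat.hom_ext (LinearMap.ext fun x => x.2))
  have hlim : IsLimit (KernelFork.ofι k hk) := by
    refine KernelFork.IsLimit.ofι k hk
      (fun {X} g hg => ⟨ModuleCat.ofHom ((g.hom.hom : X.obj →ₗ[A] i.left.obj.left).codRestrict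
        (LinearMap.ker i.left.obj.hom.hom) fun x => ConcreteCategory.congr_hom (congrArg (fun z : X ⟶ Q => z.hom) hg) x)⟩)
      (fun _ _ => rfl) (fun {X} g hg d hd => ObjectProperty.hom_ext _ (ModuleCat.hom_ext (LinearMap.ext fun x =>
        Subtype.ext ?_)))
    exact ConcreteCategory.congr_hom (congrArg (fun z : X ⟶ P => z.hom) hd) x
  exact ⟨KernelFork.mapIsLimit (KernelFork.ofι k hk) hlim ((fp A).ι ⋙ F')⟩

variable [HasKernels B]

set_option synthInstance.maxHeartbeats 400000 in
set_option maxHeartbeats 1600000 in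
theorem preserves_kernel (hcoh : ∀ I : Ideal A, I.FG → Module.FinitePresentation A I)
    (hcomm : ∀ (J : Type u) [SmallCategory J] [IsFiltered J],
      PreservesLimitsOfShape WalkingParallelPair (colim : (J ⥤ B) ⥤ B)) :
    PreservesLimit (parallelPair f 0) F' := by
  classical
  haveI := additive_restrict_of_limits F'
  haveI := additive F'
  let e := equivSmallModel.{u} (Idx f)
  haveI : IsFiltered (SmallModel.{u} (Idx f)) := IsFiltered.of_equivalence e
  haveI : PreservesColimitsOfShape (Idx f) F' := preservesColimitsOfShape_of_equiv e.symm F'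
  let pr : Idx f ⥤ Arrow (ModuleCat.{u} A) := CostructuredArrow.proj _ _ ⋙ (fpArrow A).ι
  let Gs : Idx f ⥤ ModuleCat.{u} A := pr ⋙ Arrow.leftFunc
  let Gt : Idx f ⥤ ModuleCat.{u} A := pr ⋙ Arrow.rightFunc
  let Gk : Idx f ⥤ ModuleCat.{u} A :=
    { obj := fun i => ModuleCat.of A (LinearMap.ker i.left.obj.hom.hom)
      map := fun {i j} a => ModuleCat.ofHom ((a.left.hom.left.hom.comp (LinearMap.ker i.left.obj.hom.hom).subtype).codRestrict
        (LinearMap.ker j.left.obj.hom.hom) fun x => by
          have h := ConcreteCategory.congr_hom a.left.hom.w x.1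
          change j.left.obj.hom.hom (a.left.hom.left.hom x.1) = 0
          exact h.trans ((congrArg a.left.hom.right.hom x.2).trans (map_zero a.left.hom.right.hom)))
      map_id := fun i => ModuleCat.hom_ext (LinearMap.ext fun x => Subtype.ext rfl)
      map_comp := fun a b => ModuleCat.hom_ext (LinearMap.ext fun x => Subtype.ext rfl) }
  let κ : Gk ⟶ Gs :=
    { app := fun i => ModuleCat.ofHom (LinearMap.ker i.left.obj.hom.hom).subtype, naturality := fun i j a => rfl }
  let μ : Gs ⟶ Gt := Functor.whiskerLeft pr Arrow.leftToRight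
  let K := LinearMap.ker f.hom
  let cs : Cocone Gs := ⟨M, { app := fun i => i.hom.left, naturality := fun i j a =>
    (congrArg (fun t => t.left) (CostructuredArrow.w a)).trans (Category.comp_id _).symm }⟩
  let ct : Cocone Gt := ⟨N, { app := fun i => i.hom.right, naturality := fun i j a =>
    (congrArg (fun t => t.right) (CostructuredArrow.w a)).trans (Category.comp_id _).symm }⟩
  let ck : Cocone Gk := ⟨ModuleCat.of A K,
    { app := fun i => ModuleCat.ofHom ((i.hom.left.hom.comp (LinearMap.ker i.left.obj.hom.hom).subtype).codRestrict K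
        fun x => by
          change f.hom (i.hom.left.hom x.1) = 0
          rw [← Idx.w i x.1, show i.left.obj.hom.hom x.1 = 0 from x.2, map_zero])
      naturality := fun i j a => ModuleCat.hom_ext (LinearMap.ext fun x => Subtype.ext
        (ConcreteCategory.congr_hom (congrArg (fun t => t.left) (CostructuredArrow.w a)) x.1)) }⟩
  obtain ⟨hs⟩ := nonempty_isColimit cs (fun x => ⟨Idx.mk A A LinearMap.id (LinearMap.toSpanSingleton A M x)
      (f.hom.comp (LinearMap.toSpanSingleton A M x)) rfl, (1 : A), one_smul A (x : M)⟩)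
    (fun i (z : i.left.obj.left) (hz : i.hom.left.hom z = 0) => by
      obtain ⟨j, a, ha, -⟩ := exists_quot f i (Submodule.span A {z}) (Submodule.fg_span_singleton z)
        (Submodule.span A {i.left.obj.hom.hom z}) (Submodule.fg_span_singleton _)
        (fun x hx => by
          obtain ⟨r, rfl⟩ := Submodule.mem_span_singleton.1 hx
          rw [map_smul]; exact Submodule.smul_mem _ _ (Submodule.mem_span_singleton_self _))
        (fun x hx => by
          obtain ⟨r, rfl⟩ := Submodule.mem_span_singleton.1 hx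
          rw [map_smul, show i.hom.left.hom z = 0 from hz, smul_zero])
        (fun y hy => by
          obtain ⟨r, rfl⟩ := Submodule.mem_span_singleton.1 hy
          rw [map_smul, Idx.w, show i.hom.left.hom z = 0 from hz, map_zero, smul_zero])
      exact ⟨j, a, ha z (Submodule.mem_span_singleton_self z)⟩)
  obtain ⟨ht⟩ := nonempty_isColimit ct (fun y => ⟨Idx.mk PUnit.{u + 1} A 0 0 (LinearMap.toSpanSingleton A N y)
      (by simp), (1 : A), one_smul A (y : N)⟩)
    (fun i (z : i.left.obj.right) (hz : i.hom.right.hom z = 0) => by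
      obtain ⟨j, a, -, ha⟩ := exists_quot f i ⊥ Submodule.fg_bot
        (Submodule.span A {z}) (Submodule.fg_span_singleton _)
        (fun x hx => by rw [(Submodule.mem_bot A).1 hx, map_zero]; exact zero_mem _)
        (fun x hx => by rw [(Submodule.mem_bot A).1 hx, map_zero])
        (fun y hy => by
          obtain ⟨r, rfl⟩ := Submodule.mem_span_singleton.1 hy
          rw [map_smul, show i.hom.right.hom z = 0 from hz, smul_zero])
      exact ⟨j, a, ha z (Submodule.mem_span_singleton_self z)⟩)
  obtain ⟨hk⟩ := nonempty_isColimit ck (fun x => ⟨Idx.mk A PUnit.{u + 1} 0 (LinearMap.toSpanSingleton A M x.1) 0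
      (by ext; simpa using (x.2 : f.hom x.1 = 0).symm), ⟨(1 : A), rfl⟩, Subtype.ext (one_smul A (x.1 : M))⟩)
    (fun i z hz => by
      have hz' : i.hom.left.hom z.1 = 0 := congrArg Subtype.val hz
      obtain ⟨j, a, ha, -⟩ := exists_quot f i (Submodule.span A {z.1}) (Submodule.fg_span_singleton _)
        ⊥ Submodule.fg_bot
        (fun x hx => by
          obtain ⟨r, rfl⟩ := Submodule.mem_span_singleton.1 hx
          rw [map_smul, show i.left.obj.hom.hom z.1 = 0 from z.2, smul_zero]; exact zero_mem _)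
        (fun x hx => by
          obtain ⟨r, rfl⟩ := Submodule.mem_span_singleton.1 hx
          rw [map_smul, hz', smul_zero])
        (fun y hy => by rw [(Submodule.mem_bot A).1 hy, map_zero])
      exact ⟨j, a, Subtype.ext (ha z.1 (Submodule.mem_span_singleton_self z.1))⟩)
  -- transport to a small index category
  haveI : HasColimitsOfShape (SmallModel.{u} (Idx f)) B := inferInstance
  haveI := hcomm (SmallModel.{u} (Idx f))
  haveI : HasZeroObject B := hasZeroObject_of_hasInitial_object
  haveI : PreservesColimitsOfShape (SmallModel.{u} (Idx f)) F' := inferInstance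
  let a := Functor.whiskerLeft e.inverse (Functor.whiskerRight κ F')
  let b := Functor.whiskerLeft e.inverse (Functor.whiskerRight μ F')
  have hab : a ≫ b = 0 := by
    ext j
    refine ((F'.map_comp _ _).symm.trans (congrArg F'.map ?_)).trans (F'.map_zero _ _)
    exact ModuleCat.hom_ext (LinearMap.ext fun x => x.2)
  have hlim : IsLimit (KernelFork.ofι a hab) := evaluationJointlyReflectsLimits _ fun j => by
    have h := (nonempty_isLimit_ker f F' hcoh (e.inverse.obj j)
      ((F'.map_comp _ _).symm.trans ((congrArg F'.map (ModuleCat.hom_ext (LinearMap.ext fun x => x.2) :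
        ModuleCat.ofHom (LinearMap.ker (e.inverse.obj j).left.obj.hom.hom).subtype ≫ (e.inverse.obj j).left.obj.hom = 0)).trans
          (F'.map_zero _ _)))).some
    haveI : ((evaluation (SmallModel.{u} (Idx f)) B).obj j).PreservesZeroMorphisms := inferInstance
    exact ((KernelFork.ofι a hab).isLimitMapConeEquiv _).symm h
  haveI : (colim : (SmallModel.{u} (Idx f) ⥤ B) ⥤ B).PreservesZeroMorphisms := inferInstance
  have hcolim := KernelFork.mapIsLimit (KernelFork.ofι a hab) hlim (colim : (SmallModel.{u} (Idx f) ⥤ B) ⥤ B)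
  have Hk := (isColimitOfPreserves F' hk).whiskerEquivalence e.symm
  have Hs := (isColimitOfPreserves F' hs).whiskerEquivalence e.symm
  have Ht := (isColimitOfPreserves F' ht).whiskerEquivalence e.symm
  let φk := (colimit.isColimit (e.inverse ⋙ Gk ⋙ F')).coconePointUniqueUpToIso Hk
  let φs := (colimit.isColimit (e.inverse ⋙ Gs ⋙ F')).coconePointUniqueUpToIso Hs
  let φt := (colimit.isColimit (e.inverse ⋙ Gt ⋙ F')).coconePointUniqueUpToIso Ht
  have hφk : ∀ j, colimit.ι (e.inverse ⋙ Gk ⋙ F') j ≫ φk.hom = F'.map (ck.ι.app (e.inverse.obj j)) := fun j =>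
    IsColimit.comp_coconePointUniqueUpToIso_hom (colimit.isColimit (e.inverse ⋙ Gk ⋙ F')) Hk j
  have hφs : ∀ j, colimit.ι (e.inverse ⋙ Gs ⋙ F') j ≫ φs.hom = F'.map (cs.ι.app (e.inverse.obj j)) := fun j =>
    IsColimit.comp_coconePointUniqueUpToIso_hom (colimit.isColimit (e.inverse ⋙ Gs ⋙ F')) Hs j
  have hφt : ∀ j, colimit.ι (e.inverse ⋙ Gt ⋙ F') j ≫ φt.hom = F'.map (ct.ι.app (e.inverse.obj j)) := fun j =>
    IsColimit.comp_coconePointUniqueUpToIso_hom (colimit.isColimit (e.inverse ⋙ Gt ⋙ F')) Ht j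
  have wK : ModuleCat.ofHom K.subtype ≫ f = 0 := ModuleCat.hom_ext (LinearMap.ext fun x => x.2)
  refine preservesLimit_of_preserves_limit_cone (ModuleCat.kernelIsLimit f) ?_
  refine ((KernelFork.ofι (ModuleCat.ofHom K.subtype) wK).isLimitMapConeEquiv F').symm ?_
  have sq₁ : colimMap a ≫ φs.hom = φk.hom ≫ F'.map (ModuleCat.ofHom K.subtype) := by
    refine colimit.hom_ext fun j => ?_
    refine (ι_colimMap_assoc a j φs.hom).trans ((congrArg (a.app j ≫ ·) (hφs j)).trans (Eq.trans ?_
      ((congrArg (· ≫ F'.map (ModuleCat.ofHom K.subtype)) (hφk j)).symm.trans (Category.assoc _ _ _))))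
    refine ((F'.map_comp _ _).symm.trans ?_).trans (F'.map_comp _ _)
    exact congrArg F'.map (ModuleCat.hom_ext (LinearMap.ext fun x => rfl))
  have sq₂ : colimMap b ≫ φt.hom = φs.hom ≫ F'.map f := by
    refine colimit.hom_ext fun j => ?_
    refine (ι_colimMap_assoc b j φt.hom).trans ((congrArg (b.app j ≫ ·) (hφt j)).trans (Eq.trans ?_
      ((congrArg (· ≫ F'.map f) (hφs j)).symm.trans (Category.assoc _ _ _))))
    refine ((F'.map_comp _ _).symm.trans ?_).trans (F'.map_comp _ _)
    exact congrArg F'.map (ModuleCat.hom_ext (LinearMap.ext fun x => Idx.w _ x))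
  have hw : colimMap a ≫ colimMap b = 0 := by
    have h1 := (colim (J := SmallModel.{u} (Idx f)) (C := B)).map_comp a b
    rw [hab] at h1
    exact h1.symm.trans ((colim (J := SmallModel.{u} (Idx f)) (C := B)).map_zero _ _)
  have hcolim' : IsLimit (KernelFork.ofι (colimMap a) hw) := hcolim
  exact isLimitOfLadder (w := hw) hcolim' (((F'.map_comp _ _).symm.trans (congrArg F'.map wK)).trans (F'.map_zero _ _))
    φk φs φt sq₁ sq₂

theorem leftExact (hcoh : ∀ I : Ideal A, I.FG → Module.FinitePresentation A I)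
    (hcomm : ∀ (J : Type u) [SmallCategory J] [IsFiltered J],
      PreservesLimitsOfShape WalkingParallelPair (colim : (J ⥤ B) ⥤ B)) :
    F'.Additive ∧ PreservesFiniteLimits F' ∧ ∀ J : Type u, PreservesColimitsOfShape (Discrete J) F' := by
  haveI := additive_restrict_of_limits F'
  haveI := additive F'
  haveI : HasZeroObject B := hasZeroObject_of_hasInitial_object
  haveI : ∀ {X Y : ModuleCat.{u} A} (f : X ⟶ Y), PreservesLimit (parallelPair f 0) F' :=
    fun g => preserves_kernel g F' hcoh hcomm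
  exact ⟨inferInstance, Functor.preservesFiniteLimits_of_preservesKernels F', preserves_coproducts F'⟩

end FunMorLib
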