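import Groth.Agent.FunMorLib.Additive

/-! Right exact extensions. -/

set_option autoImplicit false
set_option linter.style.haveILetI false
universe u v' u'

open CategoryTheory CategoryTheory.Limits

noncomputable section

namespace FunMorLib

variable {A : Type u} [CommRing A]

instance hasZeroObject_fp : HasZeroObject (fp A).FullSubcategory :=
  ⟨⟨obj PUnit.{u + 1}, by
    rw [IsZero.iff_id_eq_zero]
    exact ObjectProperty.hom_ext _ (ModuleCat.hom_ext (LinearMap.ext fun x => Subsingleton.elim _ _))⟩⟩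

instance hasBinaryBiproducts_fp : HasBinaryBiproducts (fp A).FullSubcategory := by
  refine ⟨fun P Q => ⟨⟨?_, ?_⟩⟩⟩
  · exact
      { pt := obj (P.obj × Q.obj)
        fst := ⟨ModuleCat.ofHom (LinearMap.fst A P.obj Q.obj)⟩
        snd := ⟨ModuleCat.ofHom (LinearMap.snd A P.obj Q.obj)⟩
        inl := ⟨ModuleCat.ofHom (LinearMap.inl A P.obj Q.obj)⟩
        inr := ⟨ModuleCat.ofHom (LinearMap.inr A P.obj Q.obj)⟩
        inl_fst := by ext x; rfl
        inl_snd := by ext x; rfl
        inr_fst := by ext x; rfl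
        inr_snd := by ext x; rfl }
  · refine isBinaryBilimitOfTotal _ ?_
    apply ObjectProperty.hom_ext
    refine ModuleCat.hom_ext (LinearMap.ext fun x => ?_)
    change ((x.1, (0 : Q.obj)) + ((0 : P.obj), x.2) : P.obj × Q.obj) = x
    simp

variable {B : Type u'} [Category.{v'} B] [Preadditive B] [HasFiniteBiproducts B]
  (F' : ModuleCat.{u} A ⥤ B)

theorem additive_restrict_of_colimits [PreservesFiniteColimits ((fp A).ι ⋙ F')] : ((fp A).ι ⋙ F').Additive := by
  haveI : HasZeroObject B := hasZeroObject_of_hasInitial_object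
  haveI : ((fp A).ι ⋙ F').PreservesZeroMorphisms := inferInstance
  haveI := preservesBinaryBiproducts_of_preservesBinaryCoproducts ((fp A).ι ⋙ F')
  exact Functor.additive_of_preservesBinaryBiproducts _

variable [PreservesFilteredColimitsOfSize.{u, u} F'] [PreservesFiniteColimits ((fp A).ι ⋙ F')]

theorem preserves_cokernel {M N : ModuleCat.{u} A} (f : M ⟶ N) : PreservesColimit (parallelPair f 0) F' := by
  classical
  haveI := additive_restrict_of_colimits F'
  haveI := additive F'
  let Q := LinearMap.range f.hom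
  let q : N ⟶ ModuleCat.of A (N ⧸ Q) := ModuleCat.ofHom Q.mkQ
  have w : f ≫ q = 0 := ModuleCat.hom_ext (LinearMap.ext fun x => (Submodule.Quotient.mk_eq_zero _).2 ⟨x, rfl⟩)
  refine preservesColimit_of_preserves_colimit_cocone (ModuleCat.cokernelIsColimit f) ?_
  refine ((CokernelCofork.ofπ q w).isColimitMapCoconeEquiv F').symm ?_
  -- a map killed by `f` kills everything with values in the range
  have kill : ∀ {T : B} (t : F'.obj N ⟶ T) (_ : F'.map f ≫ t = 0) (n : ℕ) (l : (Fin n → A) →ₗ[A] N),
      LinearMap.range l ≤ Q → F'.map (ModuleCat.ofHom l) ≫ t = 0 := fun t ht n l hl => by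
    obtain ⟨a, ha⟩ := Module.projective_lifting_property f.hom.rangeRestrict
      (l.codRestrict Q fun x => hl ⟨x, rfl⟩) f.hom.surjective_rangeRestrict
    have e : ModuleCat.ofHom l = ModuleCat.ofHom a ≫ f :=
      ModuleCat.hom_ext (LinearMap.ext fun x => (congrArg Subtype.val (LinearMap.congr_fun ha x)).symm)
    rw [e, F'.map_comp, Category.assoc, ht, comp_zero]
  -- the component at a finitely presented module
  have key : ∀ {T : B} (t : F'.obj N ⟶ T) (_ : F'.map f ≫ t = 0) (P : (fp A).FullSubcategory)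
      (g : P.obj ⟶ ModuleCat.of A (N ⧸ Q)),
      ∃! d : F'.obj P.obj ⟶ T, ∀ (n : ℕ) (p : (Fin n → A) →ₗ[A] P.obj) (l : (Fin n → A) →ₗ[A] N),
        Q.mkQ.comp l = g.hom.comp p → F'.map (ModuleCat.ofHom p) ≫ d = F'.map (ModuleCat.ofHom l) ≫ t := by
    intro T t ht P g
    obtain ⟨n, π, hπ⟩ := Module.Finite.exists_fin' A P.obj
    haveI : Module.Finite A (LinearMap.ker π) := Module.Finite.iff_fg.2 (Module.FinitePresentation.fg_ker π hπ)
    obtain ⟨m, σ, hσ⟩ := Module.Finite.exists_fin' A (LinearMap.ker π)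
    let r : (Fin m → A) →ₗ[A] (Fin n → A) := (LinearMap.ker π).subtype.comp σ
    have hr : LinearMap.range r = LinearMap.ker π := by
      rw [LinearMap.range_comp, LinearMap.range_eq_top.2 hσ, Submodule.map_top, Submodule.range_subtype]
    obtain ⟨l₀, hl₀⟩ := Module.projective_lifting_property Q.mkQ (g.hom.comp π) Q.mkQ_surjective
    let rP : obj (A := A) (Fin m → A) ⟶ obj (Fin n → A) := ⟨ModuleCat.ofHom r⟩
    let πP : obj (A := A) (Fin n → A) ⟶ P := ⟨ModuleCat.ofHom π⟩
    have hw : rP ≫ πP = 0 := ObjectProperty.hom_ext _ (ModuleCat.hom_ext (LinearMap.ext fun x =>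
      (hr.le ⟨x, rfl⟩ : r x ∈ LinearMap.ker π)))
    let e := (Submodule.quotEquivOfEq _ _ hr).trans (LinearMap.quotKerEquivOfSurjective π hπ)
    have he : ∀ v, e.symm (π v) = Submodule.Quotient.mk v := fun v =>
      (LinearEquiv.symm_apply_eq _).2 (show π v = e (Submodule.Quotient.mk v) from rfl)
    have hk' : ∀ {X : (fp A).FullSubcategory} (k : obj (A := A) (Fin n → A) ⟶ X), rP ≫ k = 0 →
        LinearMap.range r ≤ LinearMap.ker (k.hom.hom : (Fin n → A) →ₗ[A] X.obj) := fun k hk => by
      rintro _ ⟨x, rfl⟩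
      exact ConcreteCategory.congr_hom (congrArg (fun z => z.hom) hk) x
    have hcol : IsColimit (CokernelCofork.ofπ πP hw) :=
      CokernelCofork.IsColimit.ofπ πP hw
        (fun {X} k hk => ⟨ModuleCat.ofHom (((LinearMap.range r).liftQ (k.hom.hom : (Fin n → A) →ₗ[A] X.obj)
          (hk' k hk)).comp e.symm.toLinearMap)⟩)
        (fun {X} k hk => ObjectProperty.hom_ext _ (ModuleCat.hom_ext (LinearMap.ext fun v =>
          (congrArg ((LinearMap.range r).liftQ (k.hom.hom : (Fin n → A) →ₗ[A] X.obj) (hk' k hk)) (he v)).trans rfl)))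
        (fun {X} k hk d hd => ObjectProperty.hom_ext _ (ModuleCat.hom_ext (LinearMap.ext fun x => by
          obtain ⟨v, rfl⟩ := hπ x
          refine (ConcreteCategory.congr_hom (congrArg (fun z => z.hom) hd) v).trans ?_
          exact (congrArg ((LinearMap.range r).liftQ (k.hom.hom : (Fin n → A) →ₗ[A] X.obj) (hk' k hk)) (he v)).symm)))
    have hcol' := CokernelCofork.mapIsColimit (CokernelCofork.ofπ πP hw) hcol ((fp A).ι ⋙ F')
    have hz : F'.map (ModuleCat.ofHom r) ≫ F'.map (ModuleCat.ofHom l₀) ≫ t = 0 := by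
      rw [← F'.map_comp_assoc]
      refine kill t ht m (l₀.comp r) ?_
      rintro _ ⟨x, rfl⟩
      rw [← Submodule.Quotient.mk_eq_zero, ← Submodule.mkQ_apply, LinearMap.comp_apply, ← LinearMap.comp_apply Q.mkQ,
        hl₀, LinearMap.comp_apply, show π (r x) = 0 from hr.le ⟨x, rfl⟩, map_zero]
    obtain ⟨d, hd⟩ := CokernelCofork.IsColimit.desc' hcol' (F'.map (ModuleCat.ofHom l₀) ≫ t) hz
    refine ⟨d, fun n' p l hl => ?_, fun d' hd' => Cofork.IsColimit.hom_ext hcol' ?_⟩
    · obtain ⟨u₀, hu⟩ := Module.projective_lifting_property π p hπ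
      have e : ModuleCat.ofHom p = ModuleCat.ofHom u₀ ≫ ModuleCat.ofHom π := by
        rw [← ModuleCat.ofHom_comp, hu]
      have hd1 : F'.map (ModuleCat.ofHom π) ≫ d = F'.map (ModuleCat.ofHom l₀) ≫ t := hd
      rw [e, F'.map_comp, Category.assoc, hd1, ← F'.map_comp_assoc, ← sub_eq_zero, ← Preadditive.sub_comp,
        ← F'.map_sub]
      refine kill t ht n' (l₀.comp u₀ - l) ?_
      rintro _ ⟨x, rfl⟩
      rw [← Submodule.Quotient.mk_eq_zero, LinearMap.sub_apply, Submodule.Quotient.mk_sub, sub_eq_zero]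
      refine ((LinearMap.congr_fun hl₀ (u₀ x)).trans ?_).trans (LinearMap.congr_fun hl x).symm
      exact congrArg g.hom (LinearMap.congr_fun hu x)
    · exact (hd' n π l₀ hl₀).trans hd.symm
  choose D hD hDu using fun {T : B} (t : F'.obj N ⟶ T) (ht : F'.map f ≫ t = 0) (P : (fp A).FullSubcategory)
    (g : P.obj ⟶ ModuleCat.of A (N ⧸ Q)) => key t ht P g
  let σ {T : B} (t : F'.obj N ⟶ T) (ht : F'.map f ≫ t = 0) :
      Cocone (CostructuredArrow.proj (fp A).ι (ModuleCat.of A (N ⧸ Q)) ⋙ (fp A).ι ⋙ F') :=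
    { pt := T
      ι :=
        { app := fun i => D t ht i.left i.hom
          naturality := fun i i' a => by
            refine Eq.trans ?_ (Category.comp_id _).symm
            refine hDu t ht i.left i.hom _ fun n p l hl => ?_
            refine (F'.map_comp_assoc _ _ _).symm.trans ?_
            refine hD t ht i'.left i'.hom n (a.left.hom.hom.comp p) l ?_
            rw [hl, ← LinearMap.comp_assoc]
            exact congrArg (·.comp p) (congrArg ModuleCat.Hom.hom (CostructuredArrow.w a)).symm } }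
  refine CokernelCofork.IsColimit.ofπ (F'.map q) (by rw [← F'.map_comp, w, F'.map_zero])
    (fun t ht => (isColimitMap F' _).desc (σ t ht)) (fun t ht => ?_)
    (fun t ht d hd => ?_)
  · refine hom_ext (F' := F') fun P _ _ _ p => ?_
    refine (F'.map_comp_assoc _ _ _).symm.trans ?_
    refine ((isColimitMap F' _).fac (σ t ht) (CostructuredArrow.mk (Y := obj P) (ModuleCat.ofHom p ≫ q))).trans ?_
    obtain ⟨n, π, hπ⟩ := Module.Finite.exists_fin' A P
    refine (hDu t ht _ _ _ fun n' p' l hl => ?_).symm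
    rw [← F'.map_comp_assoc, ← sub_eq_zero, ← Preadditive.sub_comp, ← F'.map_sub]
    refine kill t ht n' (p.comp p' - l) ?_
    rintro _ ⟨x, rfl⟩
    rw [← Submodule.Quotient.mk_eq_zero, LinearMap.sub_apply, Submodule.Quotient.mk_sub, sub_eq_zero]
    exact (LinearMap.congr_fun hl x).symm
  · refine (isColimitMap F' _).hom_ext fun i => ?_
    refine Eq.trans ?_ ((isColimitMap F' _).fac (σ t ht) i).symm
    refine hDu t ht _ _ _ fun n p l hl => ?_
    change F'.map (ModuleCat.ofHom p) ≫ F'.map i.hom ≫ d = _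
    rw [← F'.map_comp_assoc]
    refine (congrArg (fun z => F'.map z ≫ d) (show ModuleCat.ofHom p ≫ i.hom = ModuleCat.ofHom l ≫ q from
      ModuleCat.hom_ext hl.symm)).trans ?_
    rw [F'.map_comp, Category.assoc, hd]

theorem rightExact : F'.Additive ∧ PreservesFiniteColimits F' ∧
    ∀ J : Type u, PreservesColimitsOfShape (Discrete J) F' := by
  haveI := additive_restrict_of_colimits F'
  haveI := additive F'
  haveI : HasZeroObject B := hasZeroObject_of_hasInitial_object
  haveI : ∀ {X Y : ModuleCat.{u} A} (f : X ⟶ Y), PreservesColimit (parallelPair f 0) F' := fun f => preserves_cokernel F' f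
  exact ⟨inferInstance, Functor.preservesFiniteColimits_of_preservesCokernels F', preserves_coproducts F'⟩

end FunMorLib
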